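import Cfsg.Agent.Fusion.PSp.Sylow

/-!
Strongly closed subgroups of the standard Sylow subgroup of the projective symplectic group.
-/

set_option autoImplicit false
set_option linter.unusedSimpArgs false
set_option linter.unusedSectionVars false
set_option linter.unnecessarySeqFocus false

namespace Cfsg.Lib.Fusion.PSp

open Matrix Cfsg Cfsg.Lib.Known.AutPSLn

variable {F : Type*} [Field F] [Fintype F] {m : ℕ} (p : ℕ) [Fact p.Prime] [CharP F p]

local notation "Spm" => Matrix.symplecticGroup (Fin m) F
local notation "Mat" => Matrix (Fin m) (Fin m) F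
local notation "Big" => Matrix (Fin m ⊕ Fin m) (Fin m ⊕ Fin m) F
local notation "Pm" => Matrix.symplecticGroup (Fin m) F ⧸ Subgroup.center (Matrix.symplecticGroup (Fin m) F)
local notation "π'" => QuotientGroup.mk' (Subgroup.center (Matrix.symplecticGroup (Fin m) F))

omit [Fintype F] [Fact p.Prime] in
theorem exists_sum_two_squares [Finite F] (x : F) : ∃ a b : F, a ^ 2 + b ^ 2 = x := by
  have := Fintype.ofFinite F
  by_cases h : ringChar F = 2
  · obtain ⟨a, rfl⟩ := FiniteField.isSquare_of_char_two h x
    exact ⟨a, 0, by ring⟩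
  · obtain ⟨a, b, hab⟩ := FiniteField.exists_root_sum_quadratic (f := (Polynomial.X ^ 2 : Polynomial F))
      (g := Polynomial.X ^ 2 - Polynomial.C x) (by simp) (Polynomial.degree_X_pow_sub_C (by norm_num) _)
      (FiniteField.odd_card_of_char_ne_two h)
    refine ⟨a, b, ?_⟩
    simp only [Polynomial.eval_pow, Polynomial.eval_X, Polynomial.eval_sub, Polynomial.eval_C] at hab
    linear_combination hab

omit [Fintype F] [Fact p.Prime] [CharP F p] in
theorem sh_comm (i j : Fin m) (c : F) : sh i j c = sh j i c := add_comm _ _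

omit [Fact p.Prime] [CharP F p] in
theorem stronglyClosed_mem {S T : Subgroup Pm} (hT : (groupFusionSystem S).StronglyClosed T)
    {z g : Pm} (hzT : z ∈ T) (hg : g * z * g⁻¹ ∈ S) : g * z * g⁻¹ ∈ T := by
  refine stronglyClosed_apply hT (P := Subgroup.zpowers z) (f := fun y => g * y * g⁻¹) ?_
    (Subgroup.mem_zpowers z) hzT
  refine isMap_group_iff.mpr ⟨Subgroup.zpowers_le.mpr (hT.1 hzT), ?_, g, fun _ _ => rfl⟩
  rintro y ⟨k, rfl⟩
  show g * z ^ k * g⁻¹ ∈ S
  rw [← _root_.conj_zpow]
  exact zpow_mem hg k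

omit [Fact p.Prime] [CharP F p] in
/-- The symmetric matrices whose translations lie in a subgroup. -/
def closedPart (T : Subgroup Pm) : AddSubgroup (Matrix (Fin m) (Fin m) F) where
  carrier := {X | ∃ h : X ∈ symMat F m, π' (tr X h) ∈ T}
  zero_mem' := ⟨zero_mem _, by
    rw [show tr (0 : Mat) (zero_mem _) = 1 from Subtype.ext (by simp [coe_tr]), map_one]
    exact one_mem T⟩
  add_mem' := by
    rintro X Y ⟨hX, hXT⟩ ⟨hY, hYT⟩
    exact ⟨add_mem hX hY, by rw [← tr_mul X Y hX hY, map_mul]; exact mul_mem hXT hYT⟩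
  neg_mem' := by
    rintro X ⟨hX, hXT⟩
    refine ⟨neg_mem hX, ?_⟩
    rw [show tr (-X) (neg_mem hX) = (tr X hX)⁻¹ from eq_inv_of_mul_eq_one_left (Subtype.ext (by
      simp [coe_tr, fromBlocks_multiply])), map_inv]
    exact inv_mem hXT

omit [Fact p.Prime] [CharP F p] in
theorem congr_mem_closedPart {T : Subgroup Pm}
    (hT : (groupFusionSystem ((sylU F m).map π')).StronglyClosed T) (A : GL (Fin m) F) {X : Mat}
    (hX : X ∈ closedPart T) : (A : Mat) * X * (A : Mat)ᵀ ∈ closedPart T := by
  obtain ⟨h, hXT⟩ := hX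
  refine ⟨congr_mem_symMat _ h, ?_⟩
  rw [← levi_conj_tr A X h, map_mul, map_mul, map_inv]
  refine stronglyClosed_mem hT hXT ?_
  rw [← map_inv, ← map_mul, ← map_mul, levi_conj_tr A X h]
  exact Subgroup.mem_map_of_mem _ (tr_mem _ _)

omit [Fact p.Prime] [CharP F p] in
theorem congrSL_mem_closedPart {T : Subgroup Pm}
    (hT : (groupFusionSystem ((sylU F m).map π')).StronglyClosed T)
    (A : Matrix.SpecialLinearGroup (Fin m) F) {X : Mat} (hX : X ∈ closedPart T) :
    (A : Mat) * X * (A : Mat)ᵀ ∈ closedPart T :=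
  congr_mem_closedPart hT (Matrix.SpecialLinearGroup.toGL A) hX

omit [Fact p.Prime] [CharP F p] in
theorem short_to_levi {T : Subgroup Pm} (hT : (groupFusionSystem ((sylU F m).map π')).StronglyClosed T)
    {i j : Fin m} (hij : i < j) {c : F} (hc : sh i j c ∈ closedPart T) :
    π' (leviSL (Matrix.SpecialLinearGroup.transvection hij.ne c)) ∈ T := by
  obtain ⟨h, hXT⟩ := hc
  obtain ⟨w, hw⟩ : ∃ w : Matrix.SpecialLinearGroup (Fin 2) F,
      (w : Matrix (Fin 2) (Fin 2) F) = !![0, 1; -1, 0] :=
    ⟨⟨!![0, 1; -1, 0], by simp [Matrix.det_fin_two]⟩, rfl⟩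
  have e := mul_inv_eq_of_eq_mul (weyl_mul_tr hij.ne c w hw)
  rw [← e, map_mul, map_mul, map_inv]
  refine stronglyClosed_mem hT hXT ?_
  rw [← map_inv, ← map_mul, ← map_mul, e]
  exact Subgroup.mem_map_of_mem _ (leviSL_mem (upperUni_transvection hij c))

omit [Fact p.Prime] [CharP F p] in
/-- A short element yields a long one. -/
theorem long_of_short {T : Subgroup Pm} (hT : (groupFusionSystem ((sylU F m).map π')).StronglyClosed T)
    {i j : Fin m} (hij : i < j) {b : F} (hb : b ≠ 0) (hs : sh i j b ∈ closedPart T) :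
    ∃ (k : Fin m) (a : F), a ≠ 0 ∧ Matrix.single k k a ∈ closedPart T := by
  set M := Matrix.SpecialLinearGroup.transvection hij.ne b
  have hx := short_to_levi hT hij hs
  set y := tr (Matrix.single j j (1 : F)) (single_diag_mem j 1)
  have hy : π' y ∈ (sylU F m).map π' := Subgroup.mem_map_of_mem _ (tr_mem _ _)
  have h1 : π' (leviSL M) * (π' y * (π' (leviSL M))⁻¹ * (π' y)⁻¹) ∈ T :=
    mul_mem hx (conj_mem_of_mem_normalizer (normalizes_of_stronglyClosed hT hy) (inv_mem hx))
  simp only [← map_inv, ← map_mul] at h1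
  have hid : Matrix.single i i (b * b) + sh i j b ∈ closedPart T := by
    refine ⟨add_mem (single_diag_mem _ _) (sh_mem _ _ _), ?_⟩
    convert h1 using 2
    rw [map_inv, show leviSL M * (y * (leviSL M)⁻¹ * y⁻¹) = leviSL M * y * (leviSL M)⁻¹ * y⁻¹ by group,
      eq_mul_inv_iff_mul_eq, leviSL, MonoidHom.comp_apply, levi_conj_tr, tr_mul]
    apply tr_congr
    simp [PSLn.coe_transvection, Matrix.transvection, sh, mul_add, add_mul, Matrix.transpose_single, Matrix.single_mul_single_of_ne, Matrix.single_mul_single_same, M, hij.ne, hij.ne']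
    abel
  exact ⟨i, b * b, mul_ne_zero hb hb, by simpa using sub_mem hid hs⟩

omit [Fact p.Prime] in
include p in
/-- A long element yields all symmetric matrices. -/
theorem symMat_le_of_long {T : Subgroup Pm} (hT : (groupFusionSystem ((sylU F m).map π')).StronglyClosed T)
    {k : Fin m} {a : F} (ha : a ≠ 0) (h : Matrix.single k k a ∈ closedPart T) :
    symMat F m ≤ closedPart T := by
  classical
  have hk : ∀ c : F, Matrix.single k k c ∈ closedPart T := by
    have hs : ∀ s : F, Matrix.single k k (s ^ 2 * a) ∈ closedPart T := by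
      intro s
      by_cases hs0 : s = 0
      · simp [hs0, zero_mem]
      have hd : ∀ l, (Function.update (fun _ : Fin m => (1 : F)) k s) l ≠ 0 := fun l => by
        rcases eq_or_ne l k with rfl | hl <;> simp [*]
      have := congr_mem_closedPart hT (dGL _ hd) h
      convert this using 1
      ext r t
      rw [coe_dGL, diagonal_transpose, Matrix.mul_diagonal, Matrix.diagonal_mul, Matrix.single_apply,
        Matrix.single_apply]
      split_ifs with he
      · rw [← he.1, ← he.2, Function.update_self]; ring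
      · simp
    intro c
    obtain ⟨s, t, hst⟩ := exists_sum_two_squares (c / a)
    have := add_mem (hs s) (hs t)
    rwa [← Matrix.single_add, ← add_mul, hst, div_mul_cancel₀ c ha] at this
  have hdiag : ∀ (l : Fin m) (c : F), Matrix.single l l c ∈ closedPart T := by
    intro l c
    rcases eq_or_ne l k with rfl | hlk
    · exact hk c
    have := congrSL_mem_closedPart hT (Matrix.SpecialLinearGroup.transvection hlk.symm (-1 : F) *
      Matrix.SpecialLinearGroup.transvection hlk (1 : F)) (hk c)
    convert this using 1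
    simp [PSLn.coe_transvection, Matrix.transvection, mul_add, add_mul, Matrix.single_mul_single_of_ne,
      Matrix.single_mul_single_same, hlk, hlk.symm, ← Matrix.single_neg]
    try abel
  have hsh : ∀ (r s : Fin m) (c : F), sh r s c ∈ closedPart T := by
    intro r s c
    rcases eq_or_ne r s with rfl | hrs
    · exact add_mem (hdiag r c) (hdiag r c)
    have := sub_mem (sub_mem (congrSL_mem_closedPart hT
      (Matrix.SpecialLinearGroup.transvection hrs.symm (1 : F)) (hdiag r c)) (hdiag r c)) (hdiag s c)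
    convert this using 1
    simp [PSLn.coe_transvection, Matrix.transvection, sh, mul_add, add_mul, Matrix.transpose_single, Matrix.single_mul_single_of_ne, Matrix.single_mul_single_same, hrs, hrs.symm]
    try abel
  intro X hX
  have hspan : ∀ Y : Mat, Y + Yᵀ ∈ closedPart T := by
    intro Y
    induction Y using Matrix.induction_on' with
    | h_zero => simp [zero_mem]
    | h_add Y Z hY hZ => rw [transpose_add, add_add_add_comm]; exact add_mem hY hZ
    | h_std_basis i j c => rw [transpose_single]; exact hsh i j c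
  have hD : diagonal (fun l => X l l) ∈ closedPart T := by
    rw [show diagonal (fun l => X l l) = ∑ l, Matrix.single l l (X l l) by
      ext r s
      rw [Matrix.sum_apply, Finset.sum_eq_single r]
      · rcases eq_or_ne r s with rfl | h' <;> simp [*]
      · intro l _ hl; simp [Matrix.single_apply, hl]
      · simp]
    exact sum_mem fun l _ => hdiag l _
  have := add_mem (hspan (Matrix.of fun r s => if r < s then X r s else 0)) hD
  convert this using 1
  ext r s
  rcases lt_trichotomy r s with hrs | rfl | hrs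
  · simp [hrs, hrs.not_gt, hrs.ne]
  · simp
  · simp [hrs, hrs.not_gt, hrs.ne']
    exact (congrFun (congrFun (mem_symMat.mp hX) r) s).symm

omit [Fact p.Prime] [CharP F p] in
/-- A central translation has only two free parameters. -/
theorem central_shape {X : Mat} (hX : X ∈ symMat F m) (hm : 2 ≤ m)
    (h : ∀ (i j : Fin m) (hij : i < j),
      (Matrix.SpecialLinearGroup.transvection hij.ne (1 : F) : Mat) * X *
        (Matrix.SpecialLinearGroup.transvection hij.ne (1 : F) : Mat)ᵀ = X) :
    X = Matrix.single ⟨0, by omega⟩ ⟨0, by omega⟩ (X ⟨0, by omega⟩ ⟨0, by omega⟩) +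
      sh ⟨0, by omega⟩ ⟨1, by omega⟩ (X ⟨0, by omega⟩ ⟨1, by omega⟩) := by
  set o : Fin m := ⟨0, by omega⟩
  set u : Fin m := ⟨1, by omega⟩
  have hou : o ≠ u := by simp [o, u, Fin.ext_iff]
  have hsym : ∀ r s, X r s = X s r := fun r s => (congrFun (congrFun (mem_symMat.mp hX) r) s).symm
  have key : ∀ i j : Fin m, i < j → ∀ l, l ≠ i → X j l = 0 := by
    intro i j hij l hl
    have := congrFun (congrFun (h i j hij) i) l
    simp [PSLn.coe_transvection, Matrix.mul_apply, Matrix.transvection, Matrix.single_apply,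
      Matrix.one_apply, add_mul, mul_add, Finset.sum_add_distrib, ite_and, hl.symm] at this
    exact this
  have hz : ∀ r s : Fin m, r ≠ o → ¬(r = u ∧ s = o) → X r s = 0 := by
    intro r s hr hrs
    have hor : o < r := Fin.lt_def.2 (Nat.pos_of_ne_zero fun h0 => hr (Fin.ext h0))
    rcases eq_or_ne s o with rfl | hs
    · have hru : u < r := by
        refine Fin.lt_def.2 ?_
        have h1 : r.1 ≠ 1 := fun h0 => hrs ⟨Fin.ext h0, rfl⟩
        have h2 : (0 : ℕ) < r.1 := hor
        show 1 < r.1
        omega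
      exact key u r hru o hou
    · exact key o r hor s hs
  ext r s
  rw [Matrix.add_apply, sh, Matrix.add_apply, Matrix.single_apply, Matrix.single_apply, Matrix.single_apply]
  by_cases hr : r = o
  · subst hr
    by_cases hs : s = o
    · subst hs; simp [hou, hou.symm]
    by_cases hs' : s = u
    · subst hs'; simp [hou, hou.symm]
    · rw [hsym, hz s o hs (by rintro ⟨e, -⟩; exact hs' e)]
      simp [Ne.symm hs, Ne.symm hs', hou.symm]
  · by_cases hru : r = u ∧ s = o
    · obtain ⟨rfl, rfl⟩ := hru
      rw [hsym u o]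
      simp [hou, hou.symm]
    · rw [hz r s hr hru]
      simp only [not_and] at hru
      split_ifs <;> simp_all

omit [Fact p.Prime] [CharP F p] in
/-- A central translation yields a long one. -/
theorem exists_long {T : Subgroup Pm} (hT : (groupFusionSystem ((sylU F m).map π')).StronglyClosed T) (hm : 2 ≤ m)
    (hex : m = 2 → 3 ≤ Fintype.card F) {o u : Fin m} (hou : o < u) {a b : F} (hab : a ≠ 0 ∨ b ≠ 0)
    (h : Matrix.single o o a + sh o u b ∈ closedPart T) :
    ∃ (k : Fin m) (c : F), c ≠ 0 ∧ Matrix.single k k c ∈ closedPart T := by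
  classical
  by_cases hb : b = 0
  · refine ⟨o, a, hab.resolve_right (not_not.mpr hb), ?_⟩
    simpa [hb, sh] using h
  by_cases ha : a = 0
  · exact long_of_short hT hou hb (by simpa [ha] using h)
  by_cases hq : 3 ≤ Fintype.card F
  · obtain ⟨v, hv⟩ := Fintype.exists_ne_of_one_lt_card (α := Fˣ) (by rw [Fintype.card_units]; omega) 1
    obtain ⟨y, hy0, hy1⟩ : ∃ y : F, y ≠ 0 ∧ y ≠ 1 := ⟨v, v.ne_zero, fun e => hv (Units.ext e)⟩
    have hd : ∀ l, (Function.update (fun _ : Fin m => (1 : F)) u y) l ≠ 0 := fun l => by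
      rcases eq_or_ne l u with rfl | hl <;> simp [*]
    refine long_of_short hT hou (b := b * (y - 1)) (mul_ne_zero hb (sub_ne_zero.mpr hy1)) ?_
    have := sub_mem (congr_mem_closedPart hT (dGL _ hd) h) h
    convert this using 1
    ext r s
    rw [coe_dGL, diagonal_transpose, Matrix.sub_apply, Matrix.mul_diagonal, Matrix.diagonal_mul]
    simp only [sh, Matrix.add_apply, Matrix.single_apply, Function.update_apply]
    have := hou.ne
    split_ifs <;> grind
  · obtain ⟨w, hwo, hwu⟩ := Cfsg.Lib.Classical.exists_third (ι := Fin m) (by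
      have : m ≠ 2 := fun e => hq (hex e)
      simp; omega) o u
    set A := Matrix.SpecialLinearGroup.transvection hwo (1 : F)
    set B := Matrix.SpecialLinearGroup.transvection hou.ne' (1 : F)
    have := add_mem (sub_mem (sub_mem (congrSL_mem_closedPart hT (A * B) h)
      (congrSL_mem_closedPart hT A h)) (congrSL_mem_closedPart hT B h)) h
    have h2 : sh w u a ∈ closedPart T := by
      convert this using 1
      simp [PSLn.coe_transvection, Matrix.transvection, sh, mul_add, add_mul, Matrix.transpose_single, Matrix.single_mul_single_of_ne, Matrix.single_mul_single_same, A, B, hwo, hwo.symm, hwu, hwu.symm, hou.ne, hou.ne']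
      try abel
    rcases lt_or_gt_of_ne hwu with hlt | hgt
    · exact long_of_short hT hlt ha h2
    · exact long_of_short hT hgt ha (sh_comm w u a ▸ h2)

/-- The Sylow subgroup has no proper nontrivial strongly closed subgroup. -/
theorem eq_of_stronglyClosed (hm : 2 ≤ m) (hex : m = 2 → 3 ≤ Fintype.card F) (S : Sylow p Pm)
    (hS : (S : Subgroup Pm) = (sylU F m).map π') {T : Subgroup Pm}
    (hT : (groupFusionSystem (S : Subgroup Pm)).StronglyClosed T) (hT1 : T ≠ ⊥) :
    T = (S : Subgroup Pm) := by
  refine le_antisymm hT.1 ?_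
  have : (T.subgroupOf (S : Subgroup Pm)).Normal :=
    (Subgroup.normal_subgroupOf_iff_le_normalizer hT.1).mpr (normalizes_of_stronglyClosed hT)
  obtain ⟨z, hzT, hzC, hz1⟩ := Cfsg.Lib.PGroups.exists_mem_center_of_normal_ne_bot S.2
    (N := T.subgroupOf (S : Subgroup Pm)) (by
      rw [Ne, Subgroup.subgroupOf_eq_bot, disjoint_iff, inf_eq_left.mpr hT.1]
      exact hT1)
  have hzne : (z : Pm) ≠ 1 := fun e => (Fact.out : p.Prime).ne_one (by
    rw [← hz1, orderOf_eq_one_iff.mpr (Subtype.ext e)])
  have hzT' : (z : Pm) ∈ T := Subgroup.mem_subgroupOf.mp hzT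
  obtain ⟨u, hu, huz⟩ : (z : Pm) ∈ (sylU F m).map π' := hS ▸ z.2
  have hcomm : ∀ r ∈ sylU F m, u * r = r * u := fun r hr => by
    refine eq_of_mk_eq p (by omega) (mul_mem hu hr) (mul_mem hr hu) ?_
    rw [map_mul, map_mul, huz]
    exact (congrArg Subtype.val (Subgroup.mem_center_iff.mp hzC ⟨π' r, hS.symm ▸ Subgroup.mem_map_of_mem _ hr⟩)).symm
  obtain ⟨X, hX, rfl⟩ := mem_siegel.mp (siegel_centralizer hu fun r hr => hcomm r (siegel_le hr))
  have hshape := central_shape hX hm fun i j hij => by
    have h1 := hcomm _ (leviSL_mem (upperUni_transvection hij (1 : F)))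
    rw [leviSL, MonoidHom.comp_apply, levi_mul_tr] at h1
    have h2 := congrArg (fun g : Spm => (g : Big).toBlocks₁₂) (mul_right_cancel h1)
    simp only [coe_tr, toBlocks_fromBlocks₁₂] at h2
    exact h2.symm
  rw [hS] at hT ⊢
  set o : Fin m := ⟨0, by omega⟩
  set v : Fin m := ⟨1, by omega⟩
  have hXT : X ∈ closedPart T := ⟨hX, huz ▸ hzT'⟩
  have hab : X o o ≠ 0 ∨ X o v ≠ 0 := by
    by_contra hc
    rw [not_or, not_not, not_not] at hc
    refine hzne ?_
    rw [← huz, ← map_one π']
    congr 1
    refine Subtype.ext ?_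
    rw [coe_tr, hshape, hc.1, hc.2]
    simp [sh]
  rw [hshape] at hXT
  obtain ⟨k, c, hc, hlong⟩ := exists_long hT hm hex (o := o) (u := v) (Fin.lt_def.2 Nat.zero_lt_one) hab hXT
  have hall := symMat_le_of_long p hT hc hlong
  have hlevi : upperUni (F := F) (n := m) ≤ T.comap ((π').comp leviSL) :=
    PSLn.upperUni_le _ fun i j hij c => short_to_levi hT hij (hall (sh_mem i j c))
  rintro _ ⟨g, hg, rfl⟩
  obtain ⟨Y, hY, M, hM, rfl⟩ := exists_decomp hg
  rw [map_mul]
  obtain ⟨_, hYT⟩ := hall hY
  exact mul_mem hYT (hlevi hM)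

end Cfsg.Lib.Fusion.PSp
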