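import Cfsg.Agent.Classical.Symp.Matrix
import Cfsg.Agent.Fusion.PSLn

/-!
Standard elements of the symplectic group: Levi elements, symmetric translations, root `SL 2`s.
-/

set_option autoImplicit false
set_option linter.unusedSimpArgs false
set_option linter.unusedSectionVars false
set_option linter.unnecessarySeqFocus false

namespace Cfsg.Lib.Fusion.PSp

open Matrix

variable {F : Type*} [Field F] {m : ℕ}

local notation "Spm" => Matrix.symplecticGroup (Fin m) F
local notation "Mat" => Matrix (Fin m) (Fin m) F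

/-- The four blocks multiply. -/
theorem toBlocks_mul (g h : Matrix (Fin m ⊕ Fin m) (Fin m ⊕ Fin m) F) :
    g * h = fromBlocks (g.toBlocks₁₁ * h.toBlocks₁₁ + g.toBlocks₁₂ * h.toBlocks₂₁)
      (g.toBlocks₁₁ * h.toBlocks₁₂ + g.toBlocks₁₂ * h.toBlocks₂₂)
      (g.toBlocks₂₁ * h.toBlocks₁₁ + g.toBlocks₂₂ * h.toBlocks₂₁)
      (g.toBlocks₂₁ * h.toBlocks₁₂ + g.toBlocks₂₂ * h.toBlocks₂₂) := by
  conv_lhs => rw [← fromBlocks_toBlocks g, ← fromBlocks_toBlocks h, fromBlocks_multiply]

/-- The symmetric matrices. -/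
def symMat (F : Type*) [Field F] (m : ℕ) : AddSubgroup (Matrix (Fin m) (Fin m) F) where
  carrier := {X | Xᵀ = X}
  add_mem' {X Y} (hX : Xᵀ = X) (hY : Yᵀ = Y) := by simp [hX, hY]
  zero_mem' := by simp
  neg_mem' {X} (hX : Xᵀ = X) := by simp [hX]

theorem mem_symMat {X : Mat} : X ∈ symMat F m ↔ Xᵀ = X := Iff.rfl

/-- The unipotent radical of the Siegel parabolic, as a homomorphism. -/
def siegelHom : Multiplicative (symMat F m) →* Spm where
  toFun X := ⟨fromBlocks 1 (X.toAdd : symMat F m).1 0 1, SymplecticGroup.fromBlocks_mem_iff.mpr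
    ⟨by simp, by simp [mem_symMat.mp X.toAdd.2], by simp⟩⟩
  map_one' := Subtype.ext (by simp)
  map_mul' X Y := Subtype.ext (by simp [fromBlocks_multiply, add_comm])

/-- A symmetric translation. -/
def tr (X : Mat) (hX : X ∈ symMat F m) : Spm := siegelHom (Multiplicative.ofAdd ⟨X, hX⟩)

theorem coe_tr (X : Mat) (hX : X ∈ symMat F m) :
    (tr X hX : Matrix (Fin m ⊕ Fin m) (Fin m ⊕ Fin m) F) = fromBlocks 1 X 0 1 := rfl

theorem tr_congr {X Y : Mat} (h : X = Y) (hX : X ∈ symMat F m) (hY : Y ∈ symMat F m) :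
    tr X hX = tr Y hY := by subst h; rfl

theorem tr_mul (X Y : Mat) (hX : X ∈ symMat F m) (hY : Y ∈ symMat F m) :
    tr X hX * tr Y hY = tr (X + Y) (add_mem hX hY) :=
  Subtype.ext (by simp [coe_tr, fromBlocks_multiply, add_comm])

theorem tr_pow (p : ℕ) [CharP F p] (X : Mat) (hX : X ∈ symMat F m) : tr X hX ^ p = 1 := by
  rw [tr, ← map_pow, ← ofAdd_nsmul,
    show p • (⟨X, hX⟩ : symMat F m) = 0 from Subtype.ext (by
      ext i j
      rw [AddSubmonoidClass.coe_nsmul, Matrix.smul_apply, nsmul_eq_mul, CharP.cast_eq_zero, zero_mul]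
      rfl),
    ofAdd_zero, map_one]

/-- The Levi subgroup of the Siegel parabolic. -/
def levi : GL (Fin m) F →* Spm where
  toFun A := ⟨fromBlocks (A : Mat) 0 0 ((A⁻¹ : GL (Fin m) F) : Mat)ᵀ,
    SymplecticGroup.fromBlocks_mem_iff.mpr ⟨by simp, by simp, by
      rw [← transpose_mul, ← Units.val_mul]; simp⟩⟩
  map_one' := Subtype.ext (by simp)
  map_mul' A B := Subtype.ext (by simp [fromBlocks_multiply, transpose_mul])

theorem coe_levi (A : GL (Fin m) F) :
    (levi A : Matrix (Fin m ⊕ Fin m) (Fin m ⊕ Fin m) F) =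
      fromBlocks (A : Mat) 0 0 ((A⁻¹ : GL (Fin m) F) : Mat)ᵀ := rfl

theorem levi_injective : Function.Injective (levi (F := F) (m := m)) := fun A B h => by
  have h1 := congrArg (fun g : Spm => (g : Matrix (Fin m ⊕ Fin m) (Fin m ⊕ Fin m) F).toBlocks₁₁) h
  simp only [coe_levi, toBlocks_fromBlocks₁₁] at h1
  exact Units.ext h1

theorem congr_mem_symMat (A : Mat) {X : Mat} (hX : X ∈ symMat F m) : A * X * Aᵀ ∈ symMat F m := by
  rw [mem_symMat, transpose_mul, transpose_mul, transpose_transpose, mem_symMat.mp hX, Matrix.mul_assoc]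

theorem levi_mul_tr (A : GL (Fin m) F) (X : Mat) (hX : X ∈ symMat F m) :
    levi A * tr X hX = tr ((A : Mat) * X * (A : Mat)ᵀ) (congr_mem_symMat _ hX) * levi A := by
  refine Subtype.ext ?_
  simp only [Submonoid.coe_mul, coe_levi, coe_tr, fromBlocks_multiply, mul_one, mul_zero, zero_mul,
    add_zero, zero_add, one_mul]
  rw [Matrix.mul_assoc ((A : Mat) * X), ← transpose_mul, ← Units.val_mul, inv_mul_cancel, Units.val_one,
    transpose_one, mul_one]

theorem levi_conj_tr (A : GL (Fin m) F) (X : Mat) (hX : X ∈ symMat F m) :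
    levi A * tr X hX * (levi A)⁻¹ = tr ((A : Mat) * X * (A : Mat)ᵀ) (congr_mem_symMat _ hX) :=
  mul_inv_eq_of_eq_mul (levi_mul_tr A X hX)

/-- The Levi map on `SL`. -/
def leviSL : Matrix.SpecialLinearGroup (Fin m) F →* Spm := levi.comp Matrix.SpecialLinearGroup.toGL

theorem coe_leviSL (M : Matrix.SpecialLinearGroup (Fin m) F) :
    (leviSL M : Matrix (Fin m ⊕ Fin m) (Fin m ⊕ Fin m) F) =
      fromBlocks (M : Mat) 0 0 ((M⁻¹ : Matrix.SpecialLinearGroup (Fin m) F) : Mat)ᵀ := by
  rw [leviSL, MonoidHom.comp_apply, coe_levi, ← map_inv]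
  rfl

/-- An invertible diagonal matrix. -/
def dGL (d : Fin m → F) (hd : ∀ k, d k ≠ 0) : GL (Fin m) F where
  val := diagonal d
  inv := diagonal fun k => (d k)⁻¹
  val_inv := by
    rw [diagonal_mul_diagonal, ← diagonal_one]
    exact congrArg diagonal (funext fun k => mul_inv_cancel₀ (hd k))
  inv_val := by
    rw [diagonal_mul_diagonal, ← diagonal_one]
    exact congrArg diagonal (funext fun k => inv_mul_cancel₀ (hd k))

theorem coe_dGL (d : Fin m → F) (hd : ∀ k, d k ≠ 0) : (dGL d hd : Mat) = diagonal d := rfl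

theorem coe_dGL_inv (d : Fin m → F) (hd : ∀ k, d k ≠ 0) :
    ((dGL d hd)⁻¹ : GL (Fin m) F).val = diagonal fun k => (d k)⁻¹ := rfl

/-- The standard root `SL 2` of the `j`th hyperbolic pair. -/
def pairHom (j : Fin m) : Matrix.SpecialLinearGroup (Fin 2) F →* Spm where
  toFun M := ⟨fromBlocks (diagonal fun k => if k = j then M.1 0 0 else 1)
      (diagonal fun k => if k = j then M.1 0 1 else 0) (diagonal fun k => if k = j then M.1 1 0 else 0)
      (diagonal fun k => if k = j then M.1 1 1 else 1),
    SymplecticGroup.fromBlocks_mem_iff.mpr ⟨by simp [diagonal_mul_diagonal, mul_comm],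
      by simp [diagonal_mul_diagonal, mul_comm], by
        simp only [diagonal_transpose, diagonal_mul_diagonal, diagonal_sub]
        rw [← diagonal_one]
        refine congrArg diagonal (funext fun k => ?_)
        have hdet : M.1 0 0 * M.1 1 1 - M.1 0 1 * M.1 1 0 = 1 := by rw [← Matrix.det_fin_two]; exact M.2
        split_ifs
        · linear_combination hdet
        · simp⟩⟩
  map_one' := Subtype.ext (by simp)
  map_mul' M N := Subtype.ext (by
    simp only [Submonoid.coe_mul, fromBlocks_multiply, diagonal_mul_diagonal, diagonal_add,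
      Matrix.SpecialLinearGroup.coe_mul, Matrix.mul_apply, Fin.sum_univ_two]
    congr 1 <;> refine congrArg diagonal (funext fun k => ?_) <;> split_ifs <;> simp)

theorem coe_pairHom (j : Fin m) (M : Matrix.SpecialLinearGroup (Fin 2) F) :
    (pairHom j M : Matrix (Fin m ⊕ Fin m) (Fin m ⊕ Fin m) F) =
      fromBlocks (diagonal fun k => if k = j then M.1 0 0 else 1)
        (diagonal fun k => if k = j then M.1 0 1 else 0) (diagonal fun k => if k = j then M.1 1 0 else 0)
        (diagonal fun k => if k = j then M.1 1 1 else 1) := rfl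

/-- The symmetric matrix of a short root. -/
def sh (i j : Fin m) (c : F) : Mat := Matrix.single i j c + Matrix.single j i c

theorem sh_mem (i j : Fin m) (c : F) : sh i j c ∈ symMat F m := by
  rw [mem_symMat, sh, transpose_add, transpose_single, transpose_single, add_comm]

theorem single_diag_mem (i : Fin m) (c : F) : Matrix.single i i c ∈ symMat F m := by
  rw [mem_symMat, transpose_single]

/-- The Weyl element of the `j`th pair turns a short translation into a Levi root element. -/
theorem weyl_mul_tr {i j : Fin m} (hij : i ≠ j) (c : F) (w : Matrix.SpecialLinearGroup (Fin 2) F)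
    (hw : (w : Matrix (Fin 2) (Fin 2) F) = !![0, 1; -1, 0]) :
    pairHom j w * tr (sh i j c) (sh_mem i j c) =
      leviSL (Matrix.SpecialLinearGroup.transvection hij c) * pairHom j w := by
  refine Subtype.ext ?_
  have hinv : ((Matrix.SpecialLinearGroup.transvection hij c)⁻¹ : Matrix.SpecialLinearGroup (Fin m) F) =
      Matrix.SpecialLinearGroup.transvection hij (-c) := Matrix.SpecialLinearGroup.transvection_inv hij c
  simp only [Submonoid.coe_mul, coe_leviSL, hinv, coe_pairHom, coe_tr, hw, fromBlocks_multiply,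
    PSLn.coe_transvection, mul_one, mul_zero, zero_mul, add_zero, zero_add]
  rw [fromBlocks_inj]
  refine ⟨?_, ?_, ?_, ?_⟩ <;> ext r s <;>
    simp only [sh, Matrix.transvection, Matrix.add_apply, Matrix.diagonal_mul, Matrix.mul_diagonal,
      Matrix.single_apply, Matrix.one_apply, Matrix.diagonal_apply, transpose_apply] <;>
    by_cases hr : r = j <;> by_cases hs : s = j <;> by_cases hrs : r = s <;>
    by_cases hri : r = i <;> by_cases hsi : s = i <;>
    simp_all <;> grind

end Cfsg.Lib.Fusion.PSp
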