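import Cfsg.Agent.Fusion.PSp.Closed

/-!
The `p`-fusion system of `PSp 2m q`, `q` a power of `p`, `m ≥ 2`, is simple.
-/

set_option autoImplicit false
set_option linter.unusedSimpArgs false
set_option linter.unusedSectionVars false
set_option linter.unnecessarySeqFocus false

namespace Cfsg.Lib.Fusion.PSp

open Matrix Cfsg Cfsg.Lib.Known.AutPSLn
open Matrix.SpecialLinearGroup (transvection diag2n)

variable {F : Type*} [Field F] [Fintype F] {m : ℕ} (p : ℕ) [Fact p.Prime] [CharP F p]

local notation "Spm" => Matrix.symplecticGroup (Fin m) F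
local notation "Mat" => Matrix (Fin m) (Fin m) F
local notation "Big" => Matrix (Fin m ⊕ Fin m) (Fin m ⊕ Fin m) F
local notation "Pm" => Matrix.symplecticGroup (Fin m) F ⧸ Subgroup.center (Matrix.symplecticGroup (Fin m) F)
local notation "π'" => QuotientGroup.mk' (Subgroup.center (Matrix.symplecticGroup (Fin m) F))

/-- The torus elements from determinant one matrices. -/
theorem leviSL_diag_mem_residual (hm : 2 ≤ m) (S : Subgroup Pm) (hS : S = (sylU F m).map π')
    {M : Matrix.SpecialLinearGroup (Fin m) F} {d : Fin m → F} (hM : (M : Mat) = diagonal d) :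
    π' (leviSL M) ∈ normalResidual p S := by
  subst hS
  have hd : ∀ k, d k ≠ 0 := fun k h0 => by
    have h1 : (M : Mat).det = 1 := M.2
    rw [hM, det_diagonal, Finset.prod_eq_zero (Finset.mem_univ k) h0] at h1
    exact zero_ne_one h1
  have hT : leviSL M = levi (dGL d hd) := by
    rw [leviSL, MonoidHom.comp_apply]
    exact congrArg levi (Units.ext hM)
  refine ⟨mem_normalizer_of_maps_finite ?_, (siegel F m).map π', Subgroup.map_mono siegel_le, ?_, ?_, ?_⟩
  · rintro _ ⟨u, hu, rfl⟩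
    exact ⟨_, hT.symm ▸ torus_conj_sylU d hd hu, by simp⟩
  · rintro _ ⟨u, hu, rfl⟩
    refine mem_normalizer_of_maps_finite ?_
    rintro _ ⟨r, hr, rfl⟩
    exact ⟨_, sylU_conj_siegel hu hr, by simp⟩
  · rintro _ ⟨⟨u, hu, rfl⟩, huc⟩
    refine ⟨u, siegel_centralizer hu fun r hr => ?_, rfl⟩
    refine eq_of_mk_eq p (by omega) (mul_mem hu (siegel_le hr)) (mul_mem (siegel_le hr) hu) ?_
    rw [map_mul, map_mul]
    exact (Subgroup.mem_centralizer_iff.mp huc _ ⟨r, hr, rfl⟩).symm
  · set H := Subgroup.closure {x : Pm | x ∈ Subgroup.normalizer (((siegel F m).map π' : Subgroup Pm) : Set Pm) ∧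
      ∃ k : ℕ, x ^ p ^ k = 1}
    have ht : ∀ (i j : Fin m) (h : i ≠ j) (c : F), π' (leviSL (transvection h c)) ∈ H := fun i j h c => by
      refine Subgroup.subset_closure ⟨mem_normalizer_of_maps_finite ?_, 1, by
        rw [pow_one, ← map_pow, ← map_pow, PSLn.transvection_pow_card p, map_one, map_one]⟩
      rintro _ ⟨r, hr, rfl⟩
      exact ⟨_, levi_conj_siegel (Matrix.SpecialLinearGroup.toGL (transvection h c)) hr, by simp [leviSL]⟩
    refine PSLn.diag_mem (H.comap ((π').comp leviSL)) (fun i j _ hne a ha => ?_) M d hM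
    rw [Cfsg.Lib.Classical.diag2n_eq_prod hne a ha, Subgroup.mem_comap]
    simp only [map_mul]
    exact mul_mem (mul_mem (mul_mem (mul_mem (mul_mem (ht _ _ _ _) (ht _ _ _ _)) (ht _ _ _ _))
      (ht _ _ _ _)) (ht _ _ _ _)) (ht _ _ _ _)

omit [Fintype F] [Fact p.Prime] [CharP F p] in
theorem pairHom_fix {e j : Fin m} (hej : e ≠ j) (M : Matrix.SpecialLinearGroup (Fin 2) F) :
    (pairHom j M : Big) *ᵥ Pi.single (Sum.inl e) 1 = (1 : F) • Pi.single (Sum.inl e) 1 := by
  rw [one_smul, mulVec_single_one]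
  ext x
  rcases x with k | k <;> simp [coe_pairHom, Pi.single_apply, Matrix.diagonal_apply] <;>
    intros <;> simp_all

omit [Fintype F] [Fact p.Prime] [CharP F p] in
/-- The diagonal of a root `SL 2` lies in the Levi subgroup. -/
theorem pairHom_diag (j : Fin m) (a : F) (ha : a ≠ 0)
    (hd : ∀ k, (Function.update (fun _ : Fin m => (1 : F)) j a) k ≠ 0) :
    pairHom j (diag2n (show (0 : Fin 2) ≠ 1 by decide) a ha) = levi (dGL _ hd) := by
  have e00 : (diag2n (show (0 : Fin 2) ≠ 1 by decide) a ha).1 0 0 = a := by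
    rw [Matrix.SpecialLinearGroup.diag2n_coe]; simp
  have e01 : (diag2n (show (0 : Fin 2) ≠ 1 by decide) a ha).1 0 1 = 0 := by
    rw [Matrix.SpecialLinearGroup.diag2n_coe]; simp
  have e10 : (diag2n (show (0 : Fin 2) ≠ 1 by decide) a ha).1 1 0 = 0 := by
    rw [Matrix.SpecialLinearGroup.diag2n_coe]; simp
  have e11 : (diag2n (show (0 : Fin 2) ≠ 1 by decide) a ha).1 1 1 = a⁻¹ := by
    rw [Matrix.SpecialLinearGroup.diag2n_coe]; simp
  refine Subtype.ext ?_
  rw [coe_pairHom, coe_levi, coe_dGL, coe_dGL_inv, diagonal_transpose, e00, e01, e10, e11, fromBlocks_inj]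
  refine ⟨congrArg diagonal (funext fun k => by rw [Function.update_apply]), by simp, by simp,
    congrArg diagonal (funext fun k => ?_)⟩
  rcases eq_or_ne k j with rfl | hk <;> simp [*]

/-- The torus elements of the second pair. -/
theorem pairHom_diag_mem_residual (hm : 2 ≤ m) (S : Subgroup Pm) (hS : S = (sylU F m).map π')
    (a : F) (ha : a ≠ 0) :
    π' (pairHom ⟨1, by omega⟩ (diag2n (show (0 : Fin 2) ≠ 1 by decide) a ha)) ∈ normalResidual p S := by
  subst hS
  set e : Fin m := ⟨0, by omega⟩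
  set j : Fin m := ⟨1, by omega⟩
  have hej : e ≠ j := by simp [e, j, Fin.ext_iff]
  set D := diag2n (show (0 : Fin 2) ≠ 1 by decide) a ha
  have hd : ∀ k, (Function.update (fun _ : Fin m => (1 : F)) j a) k ≠ 0 := fun k => by
    rcases eq_or_ne k j with rfl | hk <;> simp [*]
  have hT : pairHom j D = levi (dGL _ hd) := pairHom_diag j a ha hd
  refine ⟨mem_normalizer_of_maps_finite ?_, (pointRad F e).map π',
    Subgroup.map_mono (pointRad_le (by omega)), ?_, ?_, ?_⟩
  · rintro _ ⟨u, hu, rfl⟩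
    exact ⟨_, hT.symm ▸ torus_conj_sylU _ hd hu, by simp⟩
  · rintro _ ⟨u, hu, rfl⟩
    refine mem_normalizer_of_maps_finite ?_
    rintro _ ⟨r, hr, rfl⟩
    exact ⟨_, pointRad_conj one_ne_zero (by rw [one_smul]; exact fix_of_mem_sylU (by omega) hu) hr, by simp⟩
  · rintro _ ⟨⟨u, hu, rfl⟩, huc⟩
    refine ⟨u, pointRad_centralizer (by omega) hu fun r hr => ?_, rfl⟩
    have hr' : r ∈ sylU F m := pointRad_le (by omega) hr
    refine eq_of_mk_eq p (by omega) (mul_mem hu hr') (mul_mem hr' hu) ?_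
    rw [map_mul, map_mul]
    exact (Subgroup.mem_centralizer_iff.mp huc _ ⟨r, hr, rfl⟩).symm
  · set H := Subgroup.closure {x : Pm | x ∈ Subgroup.normalizer (((pointRad F e).map π' : Subgroup Pm) : Set Pm) ∧
      ∃ k : ℕ, x ^ p ^ k = 1}
    have ht : ∀ (r s : Fin 2) (h : r ≠ s) (c : F), π' (pairHom j (transvection h c)) ∈ H := fun r s h c => by
      refine Subgroup.subset_closure ⟨mem_normalizer_of_maps_finite ?_, 1, by
        rw [pow_one, ← map_pow, ← map_pow, PSLn.transvection_pow_card p, map_one, map_one]⟩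
      rintro _ ⟨g, hg, rfl⟩
      exact ⟨_, pointRad_conj one_ne_zero (pairHom_fix hej (transvection h c)) hg, by simp⟩
    simp only [D, Cfsg.Lib.Classical.diag2n_eq_prod, map_mul]
    exact mul_mem (mul_mem (mul_mem (mul_mem (mul_mem (ht _ _ _ _) (ht _ _ _ _)) (ht _ _ _ _))
      (ht _ _ _ _)) (ht _ _ _ _)) (ht _ _ _ _)

theorem isSimple (hm : 2 ≤ m) (hex : m = 2 → 3 ≤ Fintype.card F) (S : Sylow p Pm) :
    (groupFusionSystem (S : Subgroup Pm)).IsSimple p := by
  classical
  have hsurj : Function.Surjective π' := QuotientGroup.mk'_surjective _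
  obtain ⟨Q, hQ⟩ := exists_sylow (F := F) (m := m) p
  set S' := S
  obtain ⟨S, hS⟩ : ∃ S : Sylow p Pm, (S : Subgroup Pm) = (sylU F m).map π' :=
    ⟨Q.mapSurjective hsurj, by rw [Sylow.coe_mapSurjective, hQ]⟩
  set o : Fin m := ⟨0, by omega⟩
  set v : Fin m := ⟨1, by omega⟩
  refine isSimple_of_normalResidual S S' (fun h => ?_)
    (fun T hT => or_iff_not_imp_left.mpr (eq_of_stronglyClosed p hm hex S hS hT)) ?_
  · have h1 : π' (tr (Matrix.single o o (1 : F)) (single_diag_mem o 1)) ∈ (S : Subgroup Pm) :=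
      hS.symm ▸ Subgroup.mem_map_of_mem _ (tr_mem _ _)
    rw [h, Subgroup.mem_bot, ← map_one π'] at h1
    have h2 := congrArg (fun g : Spm => (g : Big) (Sum.inl o) (Sum.inr o))
      (eq_of_mk_eq p (by omega) (tr_mem _ _) (one_mem _) h1)
    simp [coe_tr] at h2
  intro g hg
  set K := Subgroup.closure (normalResidual p (S : Subgroup Pm) ∪ ((S : Subgroup Pm) : Set Pm) ∪
    Subgroup.centralizer ((S : Subgroup Pm) : Set Pm))
  obtain ⟨M, rfl⟩ := hsurj g
  have hconj : ∀ u ∈ sylU F m, M⁻¹ * u * M ∈ sylU F m := fun u hu => by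
    obtain ⟨k, hk⟩ := isPGroup_sylU p (⟨u, hu⟩ : sylU F m)
    have hk' : u ^ p ^ k = 1 := congrArg Subtype.val hk
    refine mem_sylU_of_mk_mem p (by omega) (k := k) ?_ ?_
    · rw [show M⁻¹ * u * M = M⁻¹ * u * (M⁻¹)⁻¹ by group, _root_.conj_pow, hk']
      group
    · have h1 := conj_mem_of_mem_normalizer (Subgroup.inv_mem _ hg)
        (show π' u ∈ (S : Subgroup Pm) from hS.symm ▸ Subgroup.mem_map_of_mem _ hu)
      rw [inv_inv] at h1
      rw [← hS, map_mul, map_mul, map_inv]
      exact h1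
  obtain ⟨d, hd, u, hu, rfl⟩ := exists_torus_mul hconj
  rw [map_mul]
  refine mul_mem ?_ (Subgroup.subset_closure (Or.inl (Or.inr (hS.symm ▸ Subgroup.mem_map_of_mem _ hu))))
  -- split off the determinant
  set c := ∏ k, d k
  have hc : c ≠ 0 := Finset.prod_ne_zero_iff.mpr fun k _ => hd k
  set e : Fin m → F := fun k => if k = v then d k / c else d k with he
  obtain ⟨E, hE⟩ : ∃ E : Matrix.SpecialLinearGroup (Fin m) F, (E : Mat) = diagonal e := ⟨⟨diagonal e, by
    rw [det_diagonal, ← Finset.prod_erase_mul _ _ (Finset.mem_univ v)]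
    have : ∏ k ∈ Finset.univ.erase v, e k = ∏ k ∈ Finset.univ.erase v, d k :=
      Finset.prod_congr rfl fun k hk => if_neg (Finset.ne_of_mem_erase hk)
    rw [this, he]
    simp only [if_pos]
    rw [← mul_div_assoc, Finset.prod_erase_mul _ _ (Finset.mem_univ v), div_self hc]⟩, rfl⟩
  have hsplit : levi (dGL d hd) = leviSL E * pairHom v (diag2n (show (0 : Fin 2) ≠ 1 by decide) c hc) := by
    have hd' : ∀ k, (Function.update (fun _ : Fin m => (1 : F)) v c) k ≠ 0 := fun k => by
      rcases eq_or_ne k v with rfl | hk <;> simp [*]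
    have hT := pairHom_diag v c hc hd'
    rw [hT, leviSL, MonoidHom.comp_apply, ← map_mul]
    refine congrArg levi (Units.ext ?_)
    rw [Units.val_mul, coe_dGL, coe_dGL]
    show diagonal d = (E : Mat) * _
    rw [hE, diagonal_mul_diagonal]
    refine congrArg diagonal (funext fun k => ?_)
    rw [he, Function.update_apply]
    split_ifs <;> simp [*]
  rw [hsplit, map_mul]
  exact mul_mem (Subgroup.subset_closure (Or.inl (Or.inl (leviSL_diag_mem_residual p hm _ hS hE))))
    (Subgroup.subset_closure (Or.inl (Or.inl (pairHom_diag_mem_residual p hm _ hS c hc))))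

end Cfsg.Lib.Fusion.PSp
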