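import Cfsg.Agent.Fusion.PSp.Unipotent

/-!
The unipotent radical of the stabilizer of a point in the symplectic group.
-/

set_option autoImplicit false
set_option linter.unusedSimpArgs false
set_option linter.unusedSectionVars false
set_option linter.unnecessarySeqFocus false

namespace Cfsg.Lib.Fusion.PSp

open Matrix Cfsg.Lib.Known.AutPSLn

variable {F : Type*} [Field F] {m : ℕ}

local notation "Spm" => Matrix.symplecticGroup (Fin m) F
local notation "Mat" => Matrix (Fin m) (Fin m) F
local notation "Big" => Matrix (Fin m ⊕ Fin m) (Fin m ⊕ Fin m) F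
local notation "Vec" => (Fin m ⊕ Fin m → F)

theorem sympBilin_single (v : Vec) (e : Fin m) :
    Cfsg.Lib.Classical.sympBilin m F v (Pi.single (Sum.inl e) 1) = v (Sum.inr e) := by
  rw [Cfsg.Lib.Classical.sympBilin_eq_sum, Finset.sum_eq_single e]
  · simp
  · intro i _ hi; simp [hi]
  · simp

/-- Fixing the point, preserve its orthogonal. -/
theorem inr_mulVec {h : Spm} {e : Fin m} {c : F}
    (hh : (h : Big) *ᵥ Pi.single (Sum.inl e) 1 = c • Pi.single (Sum.inl e) 1) (v : Vec) :
    c * ((h : Big) *ᵥ v) (Sum.inr e) = v (Sum.inr e) := by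
  have := (Cfsg.Lib.Classical.mem_symplectic_iff_form (h : Big)).mp h.2 v (Pi.single (Sum.inl e) 1)
  rw [hh, map_smul, sympBilin_single, sympBilin_single, smul_eq_mul] at this
  exact this

theorem mulVec_inv_mulVec (g : Spm) (v : Vec) : ((g⁻¹ : Spm) : Big) *ᵥ ((g : Big) *ᵥ v) = v := by
  rw [Matrix.mulVec_mulVec, ← Submonoid.coe_mul, inv_mul_cancel, OneMemClass.coe_one, one_mulVec]

theorem mulVec_mulVec_inv (g : Spm) (v : Vec) : (g : Big) *ᵥ (((g⁻¹ : Spm) : Big) *ᵥ v) = v := by
  rw [Matrix.mulVec_mulVec, ← Submonoid.coe_mul, mul_inv_cancel, OneMemClass.coe_one, one_mulVec]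

/-- The radical of the stabilizer of a point: trivial on the point and on the orthogonal modulo it. -/
def pointRad (F : Type*) [Field F] {m : ℕ} (e : Fin m) : Subgroup (Matrix.symplecticGroup (Fin m) F) where
  carrier := {g | (g : Matrix (Fin m ⊕ Fin m) (Fin m ⊕ Fin m) F) *ᵥ Pi.single (Sum.inl e) 1 = Pi.single (Sum.inl e) 1 ∧
    ∀ v : Fin m ⊕ Fin m → F, v (Sum.inr e) = 0 →
      ∃ c : F, (g : Matrix (Fin m ⊕ Fin m) (Fin m ⊕ Fin m) F) *ᵥ v = v + c • Pi.single (Sum.inl e) 1}
  one_mem' := ⟨by rw [OneMemClass.coe_one, one_mulVec], fun v _ => ⟨0, by simp⟩⟩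
  mul_mem' {g h} hg hh := by
    refine ⟨by rw [Submonoid.coe_mul, ← Matrix.mulVec_mulVec, hh.1, hg.1], fun v hv => ?_⟩
    obtain ⟨a, ha⟩ := hg.2 v hv
    obtain ⟨b, hb⟩ := hh.2 v hv
    exact ⟨a + b, by rw [Submonoid.coe_mul, ← Matrix.mulVec_mulVec, hb, mulVec_add, mulVec_smul, hg.1, ha,
      add_smul, add_assoc]⟩
  inv_mem' {g} hg := by
    have h1 := congrArg (fun w => ((g⁻¹ : Matrix.symplecticGroup (Fin m) F) :
      Matrix (Fin m ⊕ Fin m) (Fin m ⊕ Fin m) F) *ᵥ w) hg.1
    simp only [mulVec_inv_mulVec] at h1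
    refine ⟨h1.symm, fun v hv => ?_⟩
    obtain ⟨a, ha⟩ := hg.2 v hv
    refine ⟨-a, ?_⟩
    have h2 := congrArg (fun w => ((g⁻¹ : Matrix.symplecticGroup (Fin m) F) :
      Matrix (Fin m ⊕ Fin m) (Fin m ⊕ Fin m) F) *ᵥ w) ha
    simp only [mulVec_inv_mulVec, mulVec_add, mulVec_smul, ← h1] at h2
    rw [neg_smul, ← sub_eq_add_neg]
    exact eq_sub_of_add_eq h2.symm

theorem pointRad_conj {h g : Spm} {e : Fin m} {c : F} (hc : c ≠ 0)
    (hh : (h : Big) *ᵥ Pi.single (Sum.inl e) 1 = c • Pi.single (Sum.inl e) 1)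
    (hg : g ∈ pointRad F e) : h * g * h⁻¹ ∈ pointRad F e := by
  have hi : ((h⁻¹ : Spm) : Big) *ᵥ Pi.single (Sum.inl e) 1 = c⁻¹ • Pi.single (Sum.inl e) 1 := by
    have h1 := congrArg (fun w => ((h⁻¹ : Spm) : Big) *ᵥ w) hh
    simp only [mulVec_inv_mulVec, mulVec_smul] at h1
    exact ((inv_smul_eq_iff₀ hc).mpr h1).symm
  refine ⟨?_, fun v hv => ?_⟩
  · rw [Submonoid.coe_mul, Submonoid.coe_mul, ← Matrix.mulVec_mulVec, ← Matrix.mulVec_mulVec, hi,
      mulVec_smul, hg.1, mulVec_smul, hh, smul_smul, inv_mul_cancel₀ hc, one_smul]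
  · have hw : (((h⁻¹ : Spm) : Big) *ᵥ v) (Sum.inr e) = 0 := by
      rw [← inr_mulVec hh (((h⁻¹ : Spm) : Big) *ᵥ v), mulVec_mulVec_inv, hv, mul_zero]
    obtain ⟨a, ha⟩ := hg.2 _ hw
    exact ⟨a * c, by rw [Submonoid.coe_mul, Submonoid.coe_mul, ← Matrix.mulVec_mulVec, ← Matrix.mulVec_mulVec,
      ha, mulVec_add, mulVec_smul, mulVec_mulVec_inv, hh, smul_smul]⟩

/-- Entries off the exceptional row and column. -/
theorem apply_of_mem_pointRad {g : Spm} {e : Fin m} (hg : g ∈ pointRad F e) {x y : Fin m ⊕ Fin m}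
    (hx : x ≠ Sum.inl e) (hy : y ≠ Sum.inr e) : (g : Big) x y = (1 : Big) x y := by
  obtain ⟨c, hc⟩ := hg.2 (Pi.single y 1) (Pi.single_eq_of_ne hy.symm _)
  have := congrFun hc x
  rw [Pi.add_apply, Pi.smul_apply, Pi.single_eq_of_ne hx, smul_zero, add_zero, mulVec_single_one] at this
  exact this.trans (by simp [Matrix.one_apply, Pi.single_apply])

variable [Fintype F]

theorem pointRad_le (hm : 1 ≤ m) : pointRad F (⟨0, hm⟩ : Fin m) ≤ sylU F m := by
  intro g hg
  set e : Fin m := ⟨0, hm⟩
  refine mem_sylU.mpr ⟨?_, fun i j hji => ?_⟩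
  · ext r s
    have := apply_of_mem_pointRad hg (x := Sum.inr r) (y := Sum.inl s) (by simp) (by simp)
    simpa [toBlocks₂₁] using this
  · show (g : Big) (Sum.inl i) (Sum.inl j) = _
    rcases eq_or_ne i e with rfl | hi
    · have hj : j = e := Fin.ext (Nat.le_zero.mp hji)
      subst hj
      have := congrFun hg.1 (Sum.inl e)
      rw [mulVec_single_one] at this
      simpa using this
    · rw [apply_of_mem_pointRad hg (by simpa using hi) (by simp)]
      simp [Matrix.one_apply]

theorem fix_of_mem_sylU (hm : 1 ≤ m) {u : Spm} (hu : u ∈ sylU F m) :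
    (u : Big) *ᵥ Pi.single (Sum.inl (⟨0, hm⟩ : Fin m)) 1 = Pi.single (Sum.inl ⟨0, hm⟩) 1 := by
  rw [mulVec_single_one]
  ext x
  rcases x with i | i
  · show (u : Big).toBlocks₁₁ i ⟨0, hm⟩ = _
    rw [hu.2 i _ (Fin.le_def.2 (Nat.zero_le _)), Pi.single_apply]
    simp
  · show (u : Big).toBlocks₂₁ i ⟨0, hm⟩ = _
    rw [hu.1]
    simp

omit [Fintype F] in
/-- Levi transvections in the first row lie in the radical. -/
theorem transvection_mem_pointRad {e j : Fin m} (hej : e ≠ j) (c : F) :
    leviSL (Matrix.SpecialLinearGroup.transvection hej c) ∈ pointRad F e := by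
  have hinv := Matrix.SpecialLinearGroup.transvection_inv hej c
  have key : ∀ (v : Vec) (x : Fin m ⊕ Fin m),
      ((leviSL (Matrix.SpecialLinearGroup.transvection hej c) : Big) *ᵥ v) x =
      v x + (if x = Sum.inl e then c * v (Sum.inl j) else 0) -
        (if x = Sum.inr j then c * v (Sum.inr e) else 0) := by
    intro v x
    rw [coe_leviSL, hinv, fromBlocks_mulVec]
    rcases x with i | i <;>
      simp [PSLn.coe_transvection, Matrix.transvection, add_mulVec, Matrix.mulVec, dotProduct,
        Matrix.single_apply, Finset.sum_add_distrib, eq_comm, ite_and, Finset.sum_ite_eq, Matrix.one_apply] <;>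
      split_ifs <;> simp_all [sub_eq_add_neg]
  refine ⟨funext fun x => ?_, fun v hv => ⟨c * v (Sum.inl j), funext fun x => ?_⟩⟩
  · rw [key]; simp [hej.symm]
  · rw [key, hv]; simp [Pi.single_apply]

/-- The radical contains its centralizer. -/
theorem pointRad_centralizer (hm : 1 ≤ m) {u : Spm} (hu : u ∈ sylU F m)
    (hc : ∀ r ∈ pointRad F (⟨0, hm⟩ : Fin m), u * r = r * u) :
    u ∈ pointRad F (⟨0, hm⟩ : Fin m) := by
  set e : Fin m := ⟨0, hm⟩
  obtain ⟨h1, h2, -⟩ := block_rels hu.1
  have hD : (u : Big) (Sum.inr e) (Sum.inr e) = 1 := by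
    have h3 := congrFun (congrFun h1 e) e
    rw [Matrix.mul_apply, Finset.sum_eq_single e, Matrix.transpose_apply, hu.2 e e le_rfl, if_pos rfl,
      one_mul, Matrix.one_apply_eq] at h3
    · exact h3
    · intro k _ hk
      rw [Matrix.transpose_apply, hu.2 k e (Fin.le_def.2 (Nat.zero_le _)), if_neg hk, zero_mul]
    · simp
  -- the equation from each transvection
  have key : ∀ j : Fin m, j ≠ e → ∀ x y : Fin m ⊕ Fin m,
      (if y = Sum.inl j then (u : Big) x (Sum.inl e) else 0) -
        (if y = Sum.inr e then (u : Big) x (Sum.inr j) else 0) =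
      (if x = Sum.inl e then (u : Big) (Sum.inl j) y else 0) -
        (if x = Sum.inr j then (u : Big) (Sum.inr e) y else 0) := by
    intro j hj x y
    have h3 := congrArg (fun g : Spm => (g : Big) x y) (hc _ (transvection_mem_pointRad hj.symm (1 : F)))
    have hN : ((leviSL (Matrix.SpecialLinearGroup.transvection hj.symm (1 : F)) : Spm) : Big) =
        1 + Matrix.single (Sum.inl e) (Sum.inl j) 1 - Matrix.single (Sum.inr j) (Sum.inr e) 1 := by
      rw [coe_leviSL, Matrix.SpecialLinearGroup.transvection_inv hj.symm (1 : F)]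
      ext a b
      rcases a with a | a <;> rcases b with b | b <;>
        simp [PSLn.coe_transvection, Matrix.transvection, Matrix.one_apply, Matrix.single_apply, and_comm] <;>
        split_ifs <;> simp_all
    simp only [Submonoid.coe_mul, hN, mul_sub, mul_add, mul_one, sub_mul, add_mul, one_mul,
      Matrix.sub_apply, Matrix.add_apply, add_sub_assoc, add_right_inj] at h3
    have hr : ∀ (a b : Fin m ⊕ Fin m), ((u : Big) * (Matrix.single a b (1 : F) : Big) : Big) x y =
        if y = b then (u : Big) x a else 0 := by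
      intro a b
      split_ifs with h
      · subst h; rw [Matrix.mul_single_apply_same, mul_one]
      · rw [Matrix.mul_single_apply_of_ne]; exact h
    have hl : ∀ (a b : Fin m ⊕ Fin m), ((Matrix.single a b (1 : F) : Big) * (u : Big) : Big) x y =
        if x = a then (u : Big) b y else 0 := by
      intro a b
      split_ifs with h
      · subst h; rw [Matrix.single_mul_apply_same, one_mul]
      · rw [Matrix.single_mul_apply_of_ne]; exact h
    rwa [hr, hr, hl, hl] at h3
  have hfix : ∀ x, (u : Big) x (Sum.inl e) = (1 : Big) x (Sum.inl e) := fun x => by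
    have := congrFun (fix_of_mem_sylU hm hu) x
    rw [mulVec_single_one] at this
    exact this.trans (by simp [Matrix.one_apply, Pi.single_apply, e])
  have hent : ∀ x y : Fin m ⊕ Fin m, x ≠ Sum.inl e → y ≠ Sum.inr e →
      (u : Big) x y = (1 : Big) x y := by
    intro x y hx hy
    rcases x with j | j
    · -- a row of the first kind
      have hj : j ≠ e := fun h => hx (by rw [h])
      have := key j hj (Sum.inl e) y
      simp [hy, hfix] at this
      rw [← this]
      simp [Matrix.one_apply, eq_comm]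
    · rcases y with k | k
      · exact (congrFun (congrFun hu.1 j) k).trans (by simp)
      · have hk : k ≠ e := fun h => hy (by rw [h])
        have := key k hk (Sum.inr j) (Sum.inr e)
        simp [hD] at this
        rw [this]
        simp [Matrix.one_apply]
  refine ⟨fix_of_mem_sylU hm hu, fun v hv => ⟨((u : Big) *ᵥ v) (Sum.inl e) - v (Sum.inl e), funext fun x => ?_⟩⟩
  rcases eq_or_ne x (Sum.inl e) with rfl | hx
  · simp [e]
  · have h4 : ((u : Big) *ᵥ v) x = ((1 : Big) *ᵥ v) x := by
      simp only [Matrix.mulVec, dotProduct]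
      refine Finset.sum_congr rfl fun y _ => ?_
      rcases eq_or_ne y (Sum.inr e) with rfl | hy
      · rw [hv, mul_zero, mul_zero]
      · rw [hent x y hx hy]
    rw [h4, one_mulVec]
    simp [Pi.single_eq_of_ne hx]

end Cfsg.Lib.Fusion.PSp
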