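import Cfsg.Agent.Fusion.PSp.Radical

/-!
The standard unipotent subgroup is a Sylow subgroup; its normalizer.
-/

set_option autoImplicit false
set_option linter.unusedSimpArgs false
set_option linter.unusedSectionVars false
set_option linter.unnecessarySeqFocus false

namespace Cfsg.Lib.Fusion.PSp

open Matrix Cfsg.Lib.Known.AutPSLn

variable {F : Type*} [Field F] [Fintype F] {m : ℕ} (p : ℕ) [Fact p.Prime] [CharP F p]

local notation "Spm" => Matrix.symplecticGroup (Fin m) F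
local notation "Mat" => Matrix (Fin m) (Fin m) F
local notation "Big" => Matrix (Fin m ⊕ Fin m) (Fin m ⊕ Fin m) F

omit [Fact p.Prime] in
theorem eq_one_of_mem_center (hm : 1 ≤ m) {z : Spm} (hz : z ∈ Subgroup.center Spm) {k : ℕ}
    (hk : z ^ p ^ k = 1) : z = 1 := by
  have h1 : z ^ Nat.gcd 2 (Nat.card F - 1) = 1 := by
    rw [← Cfsg.Lib.Classical.card_center_symplecticGroup (F := F) hm]
    have := pow_card_eq_one' (G := Subgroup.center Spm) (x := ⟨z, hz⟩)
    exact congrArg Subtype.val this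
  have h2 := orderOf_dvd_of_pow_eq_one h1 |>.trans (Nat.gcd_dvd_right _ _)
  have h3 := orderOf_dvd_of_pow_eq_one hk
  obtain ⟨n, hp, hn⟩ := FiniteField.card F p
  have hcop : Nat.Coprime (p ^ k) (Nat.card F - 1) := by
    refine Nat.Coprime.pow_left _ ((Nat.Prime.coprime_iff_not_dvd hp).mpr fun h => hp.ne_one ?_)
    have hq : p ∣ Nat.card F := by rw [Nat.card_eq_fintype_card, hn]; exact dvd_pow_self p n.2.ne'
    have := Nat.dvd_sub hq h
    rwa [Nat.sub_sub_self Nat.card_pos, Nat.dvd_one] at this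
  rw [← orderOf_eq_one_iff]
  exact Nat.eq_one_of_dvd_coprimes hcop h3 h2

include p in
/-- The projection is injective on `p`-groups. -/
theorem eq_of_mk_eq (hm : 1 ≤ m) {u v : Spm} (hu : u ∈ sylU F m) (hv : v ∈ sylU F m)
    (h : (QuotientGroup.mk' (Subgroup.center Spm)) u = QuotientGroup.mk' (Subgroup.center Spm) v) :
    u = v := by
  have h1 : u⁻¹ * v ∈ Subgroup.center Spm := QuotientGroup.eq.mp h
  obtain ⟨k, hk⟩ := isPGroup_sylU p (⟨u⁻¹ * v, mul_mem (inv_mem hu) hv⟩ : sylU F m)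
  exact inv_mul_eq_one.mp (eq_one_of_mem_center p hm h1 (k := k) (congrArg Subtype.val hk))

/-- An element normalizing the image normalizes the group. -/
theorem mem_sylU_of_mk_mem (hm : 1 ≤ m) {x : Spm} {k : ℕ} (hk : x ^ p ^ k = 1)
    (h : QuotientGroup.mk' (Subgroup.center Spm) x ∈
      (sylU F m).map (QuotientGroup.mk' (Subgroup.center Spm))) : x ∈ sylU F m := by
  obtain ⟨v, hv, he⟩ := h
  have hz : v⁻¹ * x ∈ Subgroup.center Spm := QuotientGroup.eq.mp he
  obtain ⟨l, hl⟩ := isPGroup_sylU p (⟨v, hv⟩ : sylU F m)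
  have hl' : v ^ p ^ l = 1 := congrArg Subtype.val hl
  have hcomm : Commute v (v⁻¹ * x) := (Subgroup.mem_center_iff.mp hz v)
  have h1 : (v⁻¹ * x) ^ p ^ (k + l) = 1 := by
    have h2 : x ^ p ^ (k + l) = 1 := by rw [pow_add, pow_mul, hk, one_pow]
    rw [show x = v * (v⁻¹ * x) by group, hcomm.mul_pow, pow_add, mul_comm (p ^ k), pow_mul, hl', one_pow,
      one_mul] at h2
    rw [pow_add, mul_comm]
    exact h2
  rw [eq_comm.mp (inv_mul_eq_one.mp (eq_one_of_mem_center p hm hz h1))]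
  exact hv

omit [Fact p.Prime] [CharP F p] in
/-- The normalizer of the unipotent group fixes the standard flag. -/
theorem upper_of_conj {g : Spm} (h : ∀ u ∈ sylU F m, g⁻¹ * u * g ∈ sylU F m) :
    ∀ k : Fin m, (∀ j, k < j → (g : Big).toBlocks₁₁ j k = 0) ∧ ∀ j, (g : Big).toBlocks₂₁ j k = 0 := by
  intro k
  induction k using WellFoundedLT.induction with
  | _ k ih =>
  have key : ∀ u ∈ sylU F m, ∀ l, k ≤ l →
      ((u : Big).toBlocks₁₁ * (g : Big).toBlocks₁₁ + (u : Big).toBlocks₁₂ * (g : Big).toBlocks₂₁) l k =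
        (g : Big).toBlocks₁₁ l k := by
    intro u hu l hl
    have hv := h u hu
    have he := congrArg (fun x : Spm => (x : Big).toBlocks₁₁)
      (show u * g = g * (g⁻¹ * u * g) by group)
    generalize g⁻¹ * u * g = v at hv he
    simp only [Submonoid.coe_mul, toBlocks_mul, toBlocks_fromBlocks₁₁, hv.1, mul_zero, add_zero] at he
    rw [he, Matrix.mul_apply, Finset.sum_eq_single k, hv.2 k k le_rfl, if_pos rfl, mul_one]
    · intro i _ hi
      rcases lt_or_gt_of_ne hi with hlt | hgt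
      · rw [(ih i hlt).1 l (hlt.trans_le hl), zero_mul]
      · rw [hv.2 i k hgt.le, if_neg hi, mul_zero]
    · simp
  have hC : ∀ l, (g : Big).toBlocks₂₁ l k = 0 := by
    intro l
    rcases le_or_gt k l with hl | hl
    · have := key _ (tr_mem _ (single_diag_mem l (1 : F))) l hl
      simpa [coe_tr] using this
    · have := key _ (tr_mem _ (sh_mem k l (1 : F))) k le_rfl
      simpa [coe_tr, sh, add_mul, hl.ne'] using this
  refine ⟨fun j hj => ?_, hC⟩
  have hk := key _ (leviSL_mem (upperUni_transvection hj (1 : F))) k le_rfl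
  simp only [coe_leviSL, toBlocks_fromBlocks₁₁, toBlocks_fromBlocks₁₂, zero_mul, add_zero,
    PSLn.coe_transvection, Matrix.transvection_mul_apply_same, one_mul, add_eq_left] at hk
  exact hk

omit [Fact p.Prime] [CharP F p] in
theorem exists_torus_mul {g : Spm} (h : ∀ u ∈ sylU F m, g⁻¹ * u * g ∈ sylU F m) :
    ∃ (d : Fin m → F) (hd : ∀ k, d k ≠ 0), ∃ u ∈ sylU F m, g = levi (dGL d hd) * u := by
  have hup := upper_of_conj h
  have hC : (g : Big).toBlocks₂₁ = 0 := by ext i j; exact (hup j).2 i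
  have hdet : (g : Big).toBlocks₁₁.det ≠ 0 := fun h0 => by
    have := congrArg Matrix.det (block_rels hC).1
    rw [det_mul, det_transpose, h0, zero_mul, det_one] at this
    exact zero_ne_one this
  rw [Matrix.det_of_isUpperTriangular fun i j (hij : j < i) => (hup j).1 i hij,
    Finset.prod_ne_zero_iff] at hdet
  have hd : ∀ k, (g : Big).toBlocks₁₁ k k ≠ 0 := fun k => hdet k (Finset.mem_univ k)
  obtain ⟨d, hd', hde⟩ : ∃ (d : Fin m → F) (_ : ∀ k, d k ≠ 0), ∀ k, d k = (g : Big).toBlocks₁₁ k k :=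
    ⟨_, hd, fun _ => rfl⟩
  refine ⟨d, hd', (levi (dGL d hd'))⁻¹ * g, ?_, by group⟩
  rw [← map_inv, mem_sylU, Submonoid.coe_mul, toBlocks_mul, coe_levi, coe_dGL_inv]
  simp only [toBlocks_fromBlocks₁₁, toBlocks_fromBlocks₂₁, toBlocks_fromBlocks₁₂, toBlocks_fromBlocks₂₂,
    hC, mul_zero, zero_mul, add_zero, true_and]
  intro i j hji
  rw [Matrix.diagonal_mul]
  rcases eq_or_ne i j with rfl | hij
  · rw [if_pos rfl, hde, inv_mul_cancel₀ (hd i)]
  · rw [if_neg hij, (hup j).1 i (lt_of_le_of_ne hji hij.symm), mul_zero]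

omit [Fact p.Prime] [CharP F p] in
theorem torus_conj_sylU (d : Fin m → F) (hd : ∀ k, d k ≠ 0) {u : Spm} (hu : u ∈ sylU F m) :
    levi (dGL d hd) * u * (levi (dGL d hd))⁻¹ ∈ sylU F m := by
  rw [← map_inv, mem_sylU, Submonoid.coe_mul, Submonoid.coe_mul]
  simp only [coe_levi, coe_dGL, coe_dGL_inv, toBlocks_mul, toBlocks_fromBlocks₁₁, toBlocks_fromBlocks₂₁,
    toBlocks_fromBlocks₁₂, toBlocks_fromBlocks₂₂, hu.1, mul_zero, zero_mul, add_zero, true_and]
  intro i j hji
  rw [Matrix.mul_diagonal, Matrix.diagonal_mul, hu.2 i j hji]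
  rcases eq_or_ne i j with rfl | hij
  · simp [hd i]
  · simp [hij]

theorem exists_sylow : ∃ Q : Sylow p Spm, (Q : Subgroup Spm) = sylU F m := by
  obtain ⟨Q, hQ⟩ := (isPGroup_sylU (F := F) (m := m) p).exists_le_sylow
  refine ⟨Q, le_antisymm (fun x hx => ?_) hQ⟩
  by_contra hxU
  have : Group.IsNilpotent (Q : Subgroup Spm) := Q.2.isNilpotent
  set H := (sylU F m).subgroupOf (Q : Subgroup Spm)
  have hH : H < ⊤ := lt_top_iff_ne_top.mpr fun h => hxU (Subgroup.mem_subgroupOf.mp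
    (show (⟨x, hx⟩ : (Q : Subgroup Spm)) ∈ H by rw [h]; trivial))
  obtain ⟨⟨y, hyQ⟩, hyN, hyH⟩ := SetLike.exists_of_lt (Group.normalizerCondition_of_isNilpotent H hH)
  refine hyH (Subgroup.mem_subgroupOf.mpr ?_)
  show y ∈ sylU F m
  have hconj : ∀ u ∈ sylU F m, y⁻¹ * u * y ∈ sylU F m := fun u hu => by
    have h1 := (Subgroup.mem_normalizer_iff''.mp hyN ⟨u, hQ hu⟩).mp (Subgroup.mem_subgroupOf.mpr hu)
    simpa [H, Subgroup.mem_subgroupOf] using h1
  obtain ⟨d, hd, u, hu, rfl⟩ := exists_torus_mul hconj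
  suffices hd1 : dGL d hd = 1 by rwa [hd1, map_one, one_mul]
  have hT : levi (dGL d hd) ∈ (Q : Subgroup Spm) := by
    simpa [mul_assoc] using mul_mem hyQ (inv_mem (hQ hu))
  obtain ⟨k, hk⟩ := Q.2 ⟨_, hT⟩
  have h2 : dGL d hd ^ p ^ k = 1 := levi_injective (by
    rw [map_pow, map_one]; exact congrArg Subtype.val hk)
  refine Units.ext ?_
  rw [coe_dGL, Units.val_one, ← diagonal_one, diagonal_eq_diagonal_iff]
  intro i
  have h3 : d i ^ p ^ k = 1 := by
    have h4 := congrArg (fun M : GL (Fin m) F => (M : Mat) i i) h2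
    simpa [coe_dGL, diagonal_pow] using h4
  have h5 : (d i - 1) ^ p ^ k = 0 := by rw [sub_pow_char_pow, h3, one_pow, sub_self]
  exact sub_eq_zero.mp (pow_eq_zero_iff (pow_ne_zero _ (Fact.out : p.Prime).ne_zero) |>.mp h5)

end Cfsg.Lib.Fusion.PSp
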