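import Cfsg.Agent.Fusion.PSp.Elements

/-!
The standard unipotent subgroup of the symplectic group and the two radicals.
-/

set_option autoImplicit false

namespace Cfsg.Lib.Fusion.PSp

open Matrix Cfsg.Lib.Known.AutPSLn

variable {F : Type*} [Field F] {m : ℕ}

local notation "Spm" => Matrix.symplecticGroup (Fin m) F
local notation "Mat" => Matrix (Fin m) (Fin m) F
local notation "Big" => Matrix (Fin m ⊕ Fin m) (Fin m ⊕ Fin m) F

theorem isUpperUni_one : IsUpperUni (1 : Mat) := fun i j _ => by simp [Matrix.one_apply]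

variable [Fintype F]

theorem exists_pow_inv {G : Type*} [Group G] [Finite G] (g : G) : ∃ k : ℕ, g⁻¹ = g ^ k :=
  ⟨orderOf g - 1, (eq_inv_of_mul_eq_one_left (by
    rw [← pow_succ, Nat.sub_add_cancel (orderOf_pos g), pow_orderOf_eq_one])).symm⟩

/-- The standard unipotent subgroup. -/
def sylU (F : Type*) [Field F] [Fintype F] (m : ℕ) : Subgroup (Matrix.symplecticGroup (Fin m) F) where
  carrier := {g | (g : Matrix (Fin m ⊕ Fin m) (Fin m ⊕ Fin m) F).toBlocks₂₁ = 0 ∧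
    IsUpperUni (g : Matrix (Fin m ⊕ Fin m) (Fin m ⊕ Fin m) F).toBlocks₁₁}
  one_mem' := by
    refine ⟨?_, ?_⟩ <;> rw [OneMemClass.coe_one, ← fromBlocks_one]
    · rw [toBlocks_fromBlocks₂₁]
    · rw [toBlocks_fromBlocks₁₁]; exact isUpperUni_one
  mul_mem' {g h} hg hh := by
    refine ⟨?_, ?_⟩ <;> rw [Submonoid.coe_mul, toBlocks_mul]
    · rw [toBlocks_fromBlocks₂₁, hg.1, hh.1, zero_mul, mul_zero, add_zero]
    · rw [toBlocks_fromBlocks₁₁, hh.1, mul_zero, add_zero]
      exact hg.2.mul hh.2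
  inv_mem' {g} hg := by
    obtain ⟨k, hk⟩ := exists_pow_inv g
    have key : ∀ k : ℕ, ((g ^ k : Matrix.symplecticGroup (Fin m) F) :
        Matrix (Fin m ⊕ Fin m) (Fin m ⊕ Fin m) F).toBlocks₂₁ = 0 ∧
        IsUpperUni ((g ^ k : Matrix.symplecticGroup (Fin m) F) :
          Matrix (Fin m ⊕ Fin m) (Fin m ⊕ Fin m) F).toBlocks₁₁ := by
      intro k
      induction k with
      | zero =>
        rw [pow_zero, OneMemClass.coe_one, ← fromBlocks_one, toBlocks_fromBlocks₂₁, toBlocks_fromBlocks₁₁]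
        exact ⟨rfl, isUpperUni_one⟩
      | succ k ih =>
        rw [pow_succ, Submonoid.coe_mul, toBlocks_mul, toBlocks_fromBlocks₂₁, toBlocks_fromBlocks₁₁,
          ih.1, hg.1, zero_mul, mul_zero, mul_zero, add_zero, add_zero]
        exact ⟨rfl, ih.2.mul hg.2⟩
    rw [hk]
    exact key k

theorem mem_sylU {g : Spm} :
    g ∈ sylU F m ↔ (g : Big).toBlocks₂₁ = 0 ∧ IsUpperUni (g : Big).toBlocks₁₁ := Iff.rfl

theorem tr_mem (X : Mat) (hX : X ∈ symMat F m) : tr X hX ∈ sylU F m := by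
  rw [mem_sylU, coe_tr, toBlocks_fromBlocks₂₁, toBlocks_fromBlocks₁₁]
  exact ⟨rfl, isUpperUni_one⟩

theorem leviSL_mem {M : Matrix.SpecialLinearGroup (Fin m) F} (hM : M ∈ upperUni) :
    leviSL M ∈ sylU F m := by
  rw [mem_sylU, coe_leviSL, toBlocks_fromBlocks₂₁, toBlocks_fromBlocks₁₁]
  exact ⟨rfl, hM⟩

omit [Fintype F] in
theorem det_eq_one_of_isUpperUni {A : Mat} (h : IsUpperUni A) : A.det = 1 := by
  rw [Matrix.det_of_isUpperTriangular fun i j (hij : j < i) => by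
    rw [h i j hij.le, if_neg hij.ne']]
  exact Finset.prod_eq_one fun i _ => by rw [h i i le_rfl, if_pos rfl]

/-- Block relations for a symplectic matrix with vanishing lower left block. -/
theorem block_rels {g : Spm} (hC : (g : Big).toBlocks₂₁ = 0) :
    (g : Big).toBlocks₁₁ᵀ * (g : Big).toBlocks₂₂ = 1 ∧
      (g : Big).toBlocks₂₂ * (g : Big).toBlocks₁₁ᵀ = 1 ∧
      (g : Big).toBlocks₁₂ᵀ * (g : Big).toBlocks₂₂ = (g : Big).toBlocks₂₂ᵀ * (g : Big).toBlocks₁₂ := by
  have h := g.2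
  rw [← fromBlocks_toBlocks (g : Big), SymplecticGroup.fromBlocks_mem_iff, hC] at h
  obtain ⟨-, h2, h3⟩ := h
  rw [transpose_zero, zero_mul, sub_zero] at h3
  exact ⟨h3, mul_eq_one_comm.mp h3, h2⟩

theorem exists_decomp {g : Spm} (hg : g ∈ sylU F m) :
    ∃ (X : Mat) (hX : X ∈ symMat F m) (M : Matrix.SpecialLinearGroup (Fin m) F),
      M ∈ upperUni ∧ g = tr X hX * leviSL M := by
  obtain ⟨hC, hA⟩ := hg
  obtain ⟨h1, h2, h3⟩ := block_rels hC
  set A := (g : Big).toBlocks₁₁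
  set B := (g : Big).toBlocks₁₂
  set D := (g : Big).toBlocks₂₂
  have h4 : A * Dᵀ = 1 := by
    have := congrArg transpose h2
    rwa [transpose_mul, transpose_transpose, transpose_one] at this
  have hX : B * Aᵀ ∈ symMat F m := by
    rw [mem_symMat, transpose_mul, transpose_transpose]
    calc A * Bᵀ = A * (Bᵀ * (D * Aᵀ)) := by rw [h2, mul_one]
      _ = A * (Dᵀ * B) * Aᵀ := by rw [← Matrix.mul_assoc Bᵀ, h3]; simp only [Matrix.mul_assoc]
      _ = B * Aᵀ := by rw [← Matrix.mul_assoc A, h4, one_mul]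
  obtain ⟨M, hM⟩ : ∃ M : Matrix.SpecialLinearGroup (Fin m) F, (M : Mat) = A :=
    ⟨⟨A, det_eq_one_of_isUpperUni hA⟩, rfl⟩
  refine ⟨B * Aᵀ, hX, M, ?_, Subtype.ext ?_⟩
  · show IsUpperUni (M : Mat)
    rw [hM]; exact hA
  have hinv : ((M⁻¹ : Matrix.SpecialLinearGroup (Fin m) F) : Mat)ᵀ = D := by
    have h5 : ((M⁻¹ : Matrix.SpecialLinearGroup (Fin m) F) : Mat) * A = 1 := by
      rw [← hM]; exact congrArg Subtype.val (inv_mul_cancel M)
    rw [left_inv_eq_right_inv h5 h4, transpose_transpose]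
  rw [Submonoid.coe_mul, coe_tr, coe_leviSL, hinv, hM, fromBlocks_multiply]
  conv_lhs => rw [← fromBlocks_toBlocks (g : Big), hC]
  simp only [one_mul, mul_zero, zero_mul, add_zero, zero_add]
  rw [Matrix.mul_assoc B, h1, mul_one]

/-- The Siegel radical. -/
def siegel (F : Type*) [Field F] (m : ℕ) : Subgroup (Matrix.symplecticGroup (Fin m) F) :=
  (siegelHom (F := F) (m := m)).range

omit [Fintype F] in
theorem mem_siegel {g : Spm} : g ∈ siegel F m ↔ ∃ (X : Mat) (hX : X ∈ symMat F m), tr X hX = g := by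
  constructor
  · rintro ⟨X, rfl⟩
    exact ⟨X.toAdd.1, X.toAdd.2, rfl⟩
  · rintro ⟨X, hX, rfl⟩
    exact ⟨_, rfl⟩

theorem siegel_le : siegel F m ≤ sylU F m := by
  intro g hg
  obtain ⟨X, hX, rfl⟩ := mem_siegel.mp hg
  exact tr_mem X hX

omit [Fintype F] in
theorem levi_conj_siegel (A : GL (Fin m) F) {g : Spm} (hg : g ∈ siegel F m) :
    levi A * g * (levi A)⁻¹ ∈ siegel F m := by
  obtain ⟨X, hX, rfl⟩ := mem_siegel.mp hg
  exact mem_siegel.mpr ⟨_, _, (levi_conj_tr A X hX).symm⟩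

theorem sylU_conj_siegel {u g : Spm} (hu : u ∈ sylU F m) (hg : g ∈ siegel F m) :
    u * g * u⁻¹ ∈ siegel F m := by
  obtain ⟨X, hX, M, -, rfl⟩ := exists_decomp hu
  have h1 : leviSL M * g * (leviSL M)⁻¹ ∈ siegel F m := levi_conj_siegel _ hg
  have h2 : tr X hX ∈ siegel F m := mem_siegel.mpr ⟨X, hX, rfl⟩
  have h3 := mul_mem (mul_mem h2 h1) (inv_mem h2)
  simpa only [_root_.mul_inv_rev, mul_assoc] using h3

/-- Only the Siegel radical centralizes itself. -/
theorem siegel_centralizer {u : Spm} (hu : u ∈ sylU F m)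
    (hc : ∀ r ∈ siegel F m, u * r = r * u) : u ∈ siegel F m := by
  obtain ⟨X, hX, M, hM, rfl⟩ := exists_decomp hu
  suffices M = 1 by rw [this, map_one, mul_one]; exact mem_siegel.mpr ⟨X, hX, rfl⟩
  refine Subtype.ext ?_
  have key : ∀ k : Fin m, (M : Mat) * Matrix.single k k 1 * (M : Mat)ᵀ = Matrix.single k k 1 := by
    intro k
    have h1 := hc (tr _ (single_diag_mem k 1)) (mem_siegel.mpr ⟨_, _, rfl⟩)
    have h2 : leviSL M * tr _ (single_diag_mem k (1 : F)) * (leviSL M)⁻¹ = tr _ (single_diag_mem k 1) := by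
      have h3 : tr _ (single_diag_mem k (1 : F)) * tr X hX = tr X hX * tr _ (single_diag_mem k 1) := by
        rw [tr_mul, tr_mul]; exact tr_congr (add_comm _ _) _ _
      rw [mul_assoc (tr X hX), ← mul_assoc (tr _ (single_diag_mem k (1 : F))), h3, mul_assoc (tr X hX)] at h1
      exact mul_inv_eq_of_eq_mul (mul_left_cancel h1)
    rw [leviSL, MonoidHom.comp_apply, levi_conj_tr] at h2
    have h4 := congrArg (fun g : Spm => (g : Big).toBlocks₁₂) h2
    simpa [coe_tr] using h4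
  ext i k
  rcases le_or_gt k i with h | h
  · rw [hM i k h, Matrix.SpecialLinearGroup.coe_one, Matrix.one_apply]
  · have h5 := congrFun (congrFun (key k) i) i
    rw [Matrix.mul_apply, Finset.sum_eq_single k] at h5
    · simp [Matrix.mul_apply, Matrix.single_apply, h.ne'] at h5
      rw [Matrix.SpecialLinearGroup.coe_one, Matrix.one_apply_ne h.ne]
      exact h5
    · intro l _ hl
      simp [Matrix.mul_apply, Ne.symm hl]
    · simp

variable (p : ℕ) [Fact p.Prime] [CharP F p]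

theorem isPGroup_sylU : IsPGroup p (sylU F m) := by
  rintro ⟨g, hg⟩
  obtain ⟨Q, hQ⟩ := exists_sylow_upperUni (F := F) (n := m) p
  obtain ⟨N, hN⟩ : ∃ N : Matrix.SpecialLinearGroup (Fin m) F, (N : Mat) = (g : Big).toBlocks₁₁ :=
    ⟨⟨_, det_eq_one_of_isUpperUni hg.2⟩, rfl⟩
  have hNU : N ∈ (Q : Subgroup (Matrix.SpecialLinearGroup (Fin m) F)) := by
    rw [hQ]
    show IsUpperUni (N : Mat)
    rw [hN]; exact hg.2
  obtain ⟨k, hk⟩ := Q.2 ⟨N, hNU⟩
  have hk' : (g : Big).toBlocks₁₁ ^ p ^ k = 1 := by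
    rw [← hN, ← Matrix.SpecialLinearGroup.coe_pow]
    exact congrArg (fun x : (Q : Subgroup (Matrix.SpecialLinearGroup (Fin m) F)) =>
      ((x : Matrix.SpecialLinearGroup (Fin m) F) : Mat)) hk
  have key : ∀ n : ℕ, ((g ^ n : Spm) : Big).toBlocks₁₁ = (g : Big).toBlocks₁₁ ^ n := by
    intro n
    induction n with
    | zero => rw [pow_zero, pow_zero, OneMemClass.coe_one, ← fromBlocks_one, toBlocks_fromBlocks₁₁]
    | succ n ih => rw [pow_succ, Submonoid.coe_mul, toBlocks_mul, toBlocks_fromBlocks₁₁, ih, hg.1,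
        mul_zero, add_zero, pow_succ]
  obtain ⟨X, hX, M, -, hd⟩ := exists_decomp (Subgroup.pow_mem _ hg (p ^ k))
  have hM : M = 1 := by
    have h1 := congrArg (fun x : Spm => (x : Big).toBlocks₁₁) hd
    simp only [key, hk', Submonoid.coe_mul, coe_tr, coe_leviSL, fromBlocks_multiply,
      toBlocks_fromBlocks₁₁, one_mul, mul_zero, add_zero] at h1
    exact Subtype.ext h1.symm
  refine ⟨k + 1, Subtype.ext ?_⟩
  show g ^ p ^ (k + 1) = 1
  rw [pow_succ, pow_mul, hd, hM, map_one, mul_one, tr_pow p]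

end Cfsg.Lib.Fusion.PSp
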